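import Cfsg.Agent.ThT.Main
import Cfsg.Agent.ThT.Mult2
import Cfsg.Agent.Known.AltSchur

/-! Groups of Thompson type: the odd part of the Schur multiplier. -/

set_option autoImplicit false

namespace Cfsg.Lib.ThT

open Subgroup Equiv Cfsg.Lib.Spor.Bulk Cfsg.Lib.Spor.MG Cfsg.Lib.Local Cfsg.Lib.Known
open scoped Pointwise

universe u

variable {G Γ : Type*} [Group G] [Group Γ]

/-- a central extension with kernel of odd exponent -/
structure OX (σ : Γ →* G) (N : ℕ) : Prop where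
  sj : Function.Surjective σ
  cen : σ.ker ≤ center Γ
  odd : Odd N
  ex : ∀ k ∈ σ.ker, k ^ N = 1

namespace OX

variable {σ : Γ →* G} {N : ℕ}

theorem comm (h : OX σ N) {k : Γ} (hk : σ k = 1) (g : Γ) : Commute g k :=
  mem_center_iff.1 (h.cen hk) g

theorem eq_one (h : OX σ N) {k : Γ} (hk : σ k = 1) {m : ℕ} (e : k ^ 2 ^ m = 1) : k = 1 :=
  mem_bot.1 (mem_of_pow_coprime ⊥ ((Nat.coprime_two_left.2 h.odd).pow_left m) e (h.ex k hk))

theorem uniq (h : OX σ N) {x y : Γ} (hx : x ^ 4 = 1) (hy : y ^ 4 = 1) (e : σ x = σ y) : x = y := by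
  have hk : σ (x⁻¹ * y) = 1 := by simp [e]
  rw [← mul_inv_cancel_left x y, (h.comm hk x).mul_pow, hx, one_mul] at hy
  exact inv_mul_eq_one.1 (h.eq_one hk (m := 2) hy)

theorem lift (h : OX σ N) {g : G} (hg : g ^ 4 = 1) : ∃ x, σ x = g ∧ x ^ 4 = 1 := by
  obtain ⟨x, rfl⟩ := h.sj g
  obtain ⟨k, hk⟩ := h.odd
  refine ⟨x ^ (N * N), ?_, ?_⟩
  · rw [map_pow, show N * N = 4 * (k * k + k) + 1 by rw [hk]; ring, pow_succ, pow_mul, hg]; simp
  · rw [← pow_mul, mul_comm, pow_mul, pow_mul, h.ex (x ^ 4) (by rwa [MonoidHom.mem_ker, map_pow]),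
      one_pow]

theorem sq (h : OX σ N) {x : Γ} (hx : x ^ 4 = 1) (e : σ x * σ x = 1) : x * x = 1 :=
  h.eq_one (by rwa [map_mul]) (m := 1) (by rw [← hx]; simp [pow_succ, mul_assoc])

theorem dih (h : OX σ N) {x y : Γ} (hx : x ^ 2 = 1) (hy : y ^ 2 = 1) {n : ℕ}
    (e : (σ x * σ y) ^ n = 1) : (x * y) ^ n = 1 := by
  have hk : σ ((x * y) ^ n) = 1 := by rwa [map_pow, map_mul]
  have e1 : x * (x * y) * x⁻¹ = (x * y)⁻¹ := by
    rw [← mul_assoc, ← pow_two, hx, one_mul, mul_inv_rev, inv_eq_of_mul_eq_one_right ((pow_two y).symm.trans hy)]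
  refine h.eq_one hk (m := 1) ?_
  rw [pow_one, pow_two, mul_eq_one_iff_eq_inv, ← inv_pow, ← e1, conj_pow, (h.comm hk x).eq,
    mul_inv_cancel_right]

theorem cm (h : OX σ N) {x g : Γ} (hx : x ^ 4 = 1) (e : (σ g)⁻¹ * (σ x)⁻¹ * σ g * σ x = 1) :
    g⁻¹ * x⁻¹ * g * x = 1 := by
  rw [mul_eq_one_iff_eq_inv] at e ⊢
  exact h.uniq (by rw [← inv_inv g, inv_inv g⁻¹, conj_pow]; simp [hx]) (by simp [hx]) (by simpa using e)

variable {Q : Subgroup G} {z : G} {p : G → Perm (Fin 9)}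

theorem cent (h : OX σ N) (H : Hyp Q z p) {x g : Γ} (hx : σ x ∈ zpowers z) (hg : σ g ∈ Cz z) :
    Commute g x := by
  obtain ⟨y, e, y4⟩ := h.lift (g := σ x) (by
    rw [show 4 = 2 * 2 from rfl, pow_mul, pow_two (σ x), H.mul_self_of_mem hx, one_pow])
  have e1 : g * y * g⁻¹ = y := h.uniq (by rw [conj_pow, y4]; simp) y4 (by
    rw [map_mul, map_mul, map_inv, e, H.conj_eq_of_mem (H.norm hg) hx])
  rw [← mul_inv_cancel_left y x]
  exact (show Commute g y from mul_inv_eq_iff_eq_mul.1 e1).mul_right (h.comm (by simp [e]) g)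

/-- the Sylow 2-subgroup of the preimage of `Q` -/
def T (h : OX σ N) (H : Hyp Q z p) : Subgroup ((Cz z).comap σ) where
  carrier := {g | σ g ∈ Q ∧ (g : Γ) ^ 4 = 1}
  one_mem' := ⟨by simp, by simp⟩
  inv_mem' := fun hg => ⟨by simpa using hg.1, by simp [hg.2]⟩
  mul_mem' := fun {a b} ha hb => ⟨by simpa using mul_mem ha.1 hb.1, by
    obtain ⟨a, ac⟩ := a
    obtain ⟨b, bc⟩ := b
    have m : σ (a * b * a⁻¹ * b⁻¹) ∈ zpowers z := by simpa using H.comm_mem ha.1 hb.1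
    have c1 := h.cent H m ac
    have c2 := h.cent H m bc
    have c3 := h.cent H (x := a * a) (by simpa using H.sq_mem _ ha.1) bc
    have c4 := h.cent H (x := b * b) (by simpa using H.sq_mem _ hb.1) ac
    have a4 : a * a * (a * a) = 1 := by rw [← ha.2]; simp [pow_succ, mul_assoc]
    have b4 : b * b * (b * b) = 1 := by rw [← hb.2]; simp [pow_succ, mul_assoc]
    have e : a * b = a * b * a⁻¹ * b⁻¹ * (b * a) := by group
    generalize a * b * a⁻¹ * b⁻¹ = c at c1 c2 e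
    have cc : c * c = 1 := by
      rw [← mul_left_inj (b * (a * a)), one_mul]
      calc _ = c * (c * (b * a)) * a := by group
        _ = c * a * (b * a) := by rw [← e]; group
        _ = a * (c * (b * a)) := by rw [← c1.eq]; group
        _ = _ := by rw [← e, c3.eq]; group
    have e2 : a * b * (a * b) = c * (b * b * (a * a)) := by
      calc _ = c * (b * (a * a) * b) := by nth_rewrite 1 [e]; group
        _ = _ := by rw [mul_assoc b, ← c3.eq]; group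
    show (a * b) ^ 4 = 1
    calc _ = a * b * (a * b) * (a * b * (a * b)) := by simp [pow_succ, mul_assoc]
      _ = c * c * (b * b * (b * b) * (a * a * (a * a))) := by
        rw [e2, ((c2.mul_left c2).mul_left (c1.mul_left c1)).mul_mul_mul_comm,
          (c4.mul_left c4).mul_mul_mul_comm]
      _ = 1 := by rw [cc, a4, b4]; simp⟩

theorem split (h : OX σ N) (H : Hyp Q z p) {k : Γ}
    (hk : k ∈ ⁅(Cz z).comap σ, (Cz z).comap σ⁆) (e : σ k = 1) : k = 1 := by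
  have : (h.T H).Normal := ⟨fun a ha g => ⟨by simpa using H.conj_mem g.2 ha.1, by
    simp [conj_pow, ha.2]⟩⟩
  let f : (Cz z).comap σ →* Perm (Fin 9) := MonoidHom.mk' (fun g => p (σ g)) fun a b => by
    simpa using H.p_mul _ a.2 _ b.2
  let f' := QuotientGroup.lift (h.T H) f fun g hg => H.p_Q hg.1
  have hr : f'.range = alternatingGroup (Fin 9) := by
    refine le_antisymm ?_ fun τ hτ => ?_
    · rintro _ ⟨g, rfl⟩
      obtain ⟨g, rfl⟩ := QuotientGroup.mk_surjective g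
      exact H.p_sign _ g.2
    · obtain ⟨g, hg, rfl⟩ := H.p_surj τ hτ
      obtain ⟨g, rfl⟩ := h.sj g
      exact ⟨QuotientGroup.mk ⟨g, hg⟩, rfl⟩
  have hc : f'.ker ≤ center _ := fun g hg => mem_center_iff.2 fun a => by
    obtain ⟨g, rfl⟩ := QuotientGroup.mk_surjective g
    obtain ⟨a, rfl⟩ := QuotientGroup.mk_surjective a
    obtain ⟨x, e, x4⟩ := h.lift (H.pow_four g.2 hg)
    have xc : x ∈ (Cz z).comap σ := by rw [mem_comap, e]; exact g.2
    have : (QuotientGroup.mk g : _ ⧸ h.T H) = QuotientGroup.mk ((⟨x, xc⟩ : (Cz z).comap σ)⁻¹ * g) := by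
      rw [QuotientGroup.mk_mul, QuotientGroup.mk_inv, (QuotientGroup.eq_one_iff (N := h.T H) ⟨x, xc⟩).2
        ⟨e ▸ (H.p_ker _ g.2).1 hg, x4⟩, inv_one, one_mul]
    rw [this]
    exact congrArg QuotientGroup.mk (Subtype.ext (h.comm (k := x⁻¹ * g) (by simp [e]) a).eq)
  obtain ⟨d, d2, hd⟩ := AltSchur.exists_le_zpowers hc hr (AltSchur.lifts_of_eight hc hr (by simp))
    (α := 0) (β := 1) (i₀ := 2) (j₀ := 3) (by decide) (by decide) (by decide) (by decide) (by decide)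
    (by decide)
  rw [← map_subtype_commutator] at hk
  obtain ⟨k, hk, rfl⟩ := hk
  obtain ⟨m, em⟩ := hd (show (k : _ ⧸ h.T H) ∈ _ from ⟨(congrArg p e).trans H.p_one,
    Solv.map_mem_commutator (QuotientGroup.mk' _) hk⟩)
  have : k ^ 2 ∈ h.T H := (QuotientGroup.eq_one_iff _).1 (by
    rw [QuotientGroup.mk_pow, ← em, ← zpow_natCast, ← zpow_mul, mul_comm, zpow_mul, zpow_natCast, d2,
      one_zpow])
  exact h.eq_one e (m := 3) (by simpa [← pow_mul] using this.2)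

end OX

theorem relA_map (f : Γ →* G) (a c d e u : Γ) :
    (relA a c d e u).map f = relA (f a) (f c) (f d) (f e) (f u) := by simp [relA]

theorem relB_map (f : Γ →* G) (a c d e s t u : Γ) :
    (relB a c d e s t u).map f = relB (f a) (f c) (f d) (f e) (f s) (f t) (f u) := by simp [relB]

theorem FrT.perfect {D : Dat G} (F : FrT D) : Cz D.z ≤ ⁅Cz D.z, Cz D.z⁆ := by
  have k : ∀ x y : Ex, (x * y * x⁻¹ * y⁻¹).val D ∈ ⁅Cz D.z, Cz D.z⁆ := fun x y =>
    commutator_mem_commutator (F.ev_word x ▸ F.ev_mem _) (F.ev_word y ▸ F.ev_mem _)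
  let s := Ex.w Ws
  let t := Ex.w Wt
  let u := Ex.w Wu
  let d := Ex.w Wd
  let e := Ex.w (T4 true)
  let c := Ex.q 2
  let cm := fun x y : Ex => x * y * x⁻¹ * y⁻¹
  have m : ∀ x y : Ex, chk1 (x * y⁻¹).word = true → y.val D ∈ ⁅Cz D.z, Cz D.z⁆ →
      x.val D ∈ ⁅Cz D.z, Cz D.z⁆ := fun x y h1 h2 => F.ex_eq x y h1 ▸ h2
  have hs := m s (cm t⁻¹ s) (by decide +kernel) (k _ _)
  have he := m e (s.pow 3 * cm e⁻¹ s⁻¹ * (s.pow 3)⁻¹) (by decide +kernel)
    (h_conj (pow_mem hs 3) (k _ _))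
  have hz := m .z ((cm c d).pow 2) (by decide +kernel) (pow_mem (k _ _) 2)
  have hu := m u (cm u s * s * (cm (u.pow 2) s * s) * (cm (u.pow 3) s * s))⁻¹ (by decide +kernel)
    (inv_mem (mul_mem (mul_mem (mul_mem (k _ _) hs) (mul_mem (k _ _) hs)) (mul_mem (k _ _) hs)))
  exact F.Cz_le hz (m c (Ex.z⁻¹ * u.pow 2) (by decide +kernel) (mul_mem (inv_mem hz) (pow_mem hu 2)))
    (m d ((cm d e)⁻¹ * e) (by decide +kernel) (mul_mem (inv_mem (k _ _)) he)) he hs
    (m t (cm u⁻¹ t) (by decide +kernel) (k _ _)) hu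

theorem St.r2_one [Finite G] {D : Dat G} {n w b : G} (h : St D n w)
    (hb : b = D.io 72 * w * (D.ev Wd * w * (D.ev Wd)⁻¹) * (D.io 72 * w)⁻¹) :
    r2W D.z b (D.io 2) (D.ev Wd) (D.ev (T4 true)) (D.ev Wu) = 1 := by
  obtain ⟨b', f, -, hb', ha, hb'', hc, hd, he, -, -, hu⟩ := h.exists_hom
  have := congrArg f (PresentedGroup.one_of_mem (rels := Spor.coxRelators Spor.Th.edges ∪
    {r | r ∈ Spor.Th.extra}) (x := r2W Spor.Th.a Spor.Th.b Spor.Th.c Spor.Th.d Spor.Th.e Spor.Th.u)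
    (Or.inr (List.mem_of_getElem? (i := 33) rfl)))
  rw [hb, ← hb', ← ha, ← hb'', ← hc, ← hd, ← he, ← hu]
  simp only [r2W, map_mul, map_inv, map_one] at this
  exact this

theorem St.ker_odd [Finite G] {D : Dat G} {n w : G} (h : St D n w) {σ : Γ →* G} {N : ℕ}
    (X : OX σ N) : ∃ f : Spor.Th →* Γ, Function.Surjective (σ.comp f) := by
  obtain ⟨b, bw, R1, R2, -, hb⟩ := h.exists_b
  have r2 := h.r2_one hb
  set L := ⁅(Cz D.z).comap σ, (Cz D.z).comap σ⁆
  have one : ∀ {x}, x ∈ L → σ x = 1 → x = 1 := X.split h.toHyp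
  have sL : ∀ g ∈ Cz D.z, ∃ x : L, σ x = g := fun g hg => by
    have := h.frT.perfect hg
    rw [← map_comap_eq_self_of_surjective X.sj (Cz D.z), ← map_commutator] at this
    obtain ⟨x, hx, e⟩ := this
    exact ⟨⟨x, hx⟩, e⟩
  have mL : ∀ {x}, x ^ 4 = 1 → σ x ∈ Cz D.z → x ∈ L := fun {x} x4 hx => by
    obtain ⟨y, e⟩ := sL _ hx
    rw [← X.uniq (one (pow_mem y.2 4) (by rw [map_pow, e, ← map_pow, x4, map_one])) x4 e]
    exact y.2
  have al : ∀ {l : List L}, List.Forall (· = 1) (l.map (σ.comp L.subtype)) →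
      List.Forall (· = 1) (l.map L.subtype) := fun hl => by
    simp only [List.forall_iff_forall_mem, List.forall_mem_map] at hl ⊢
    exact fun x hx => one x.2 (hl x hx)
  obtain ⟨a, ea⟩ := sL _ (Fr.z_cent D)
  obtain ⟨c, ec⟩ := sL _ (h.io_cent 2)
  obtain ⟨d, ed⟩ := sL _ (h.ev_mem Wd)
  obtain ⟨e, ee⟩ := sL _ (h.ev_mem (T4 true))
  obtain ⟨s, es⟩ := sL _ (h.ev_mem Ws)
  obtain ⟨t, et⟩ := sL _ (h.ev_mem Wt)
  obtain ⟨u, eu⟩ := sL _ (h.ev_mem Wu)
  have A := al (l := relA a c d e u) (by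
    rw [relA_map]; simpa only [MonoidHom.comp_apply, coe_subtype, ea, ec, ed, ee, eu] using h.frT.relA)
  have B := al (l := relB a c d e s t u) (by
    rw [relB_map]
    simpa only [MonoidHom.comp_apply, coe_subtype, ea, ec, ed, ee, es, et, eu] using h.frT.relB)
  rw [relA_map] at A
  rw [relB_map] at B
  obtain ⟨a, ma⟩ := a
  obtain ⟨c, mc⟩ := c
  obtain ⟨d, md⟩ := d
  obtain ⟨e, me⟩ := e
  obtain ⟨s, ms⟩ := s
  obtain ⟨t, mt⟩ := t
  obtain ⟨u, mu⟩ := u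
  simp only [coe_subtype] at A B ea ec ed ee es et eu
  obtain ⟨a2, c2, d2, e2, ae, cd, ce, de, u2, ua, uc, ue, ded, ud⟩ := A
  obtain ⟨s7, sa, sc, sd, es', t3, ta, tc, td, te, st, tu, eu', us, us4, du⟩ := B
  obtain ⟨b, rfl, b4⟩ := X.lift (g := b) (by rw [show 4 = 2 * 2 from rfl, pow_mul, R1.b2, one_pow])
  have b2 : b ^ 2 = 1 := (pow_two b).trans (X.sq b4 ((pow_two _).symm.trans R1.b2))
  set W := b⁻¹ * (a * c) * b with hW
  have eW : σ W = w := by rw [hW, map_mul, map_mul, map_mul, map_inv, ea, ec, bw]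
  have W2 : W * W = 1 := by
    rw [hW, ← inv_inv b, inv_inv b⁻¹, conj_mul, one (mul_mem (mul_mem ma mc) (mul_mem ma mc)) (by
      rw [map_mul, map_mul, ea, ec, h.z_mul (by norm_num)]; exact h.L.hR.mul_self)]
    simp
  have Wi := inv_eq_of_mul_eq_one_right W2
  have cjW : ∀ {x}, x ∈ L → σ x ^ 4 = 1 → σ x ∈ Cz (D.io 2) → W * x * W⁻¹ ∈ L := fun m x4 e =>
    mL (by rw [conj_pow, one (pow_mem m 4) (by rwa [map_pow])]; simp) (by
      rw [map_mul, map_mul, map_inv, eW, ← h.wc, conj_mem_Cz]; simpa [mul_assoc] using e)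
  have r1 : u⁻¹ * W⁻¹ * u * W * e⁻¹ = 1 := by
    refine one ?_ (by simpa only [map_mul, map_inv, eW, eu, ee, bw] using R1.r1)
    have := cjW mu (eu ▸ h.frT.ex_eq (.pow (.w Wu) 4) (.w []) (by decide +kernel))
      (eu ▸ mem_Cz.2 ((h.comm_iff _ (by norm_num)).2 (by decide +kernel)))
    rw [Wi] at this
    rw [Wi, mul_assoc u⁻¹, mul_assoc u⁻¹]
    exact mul_mem (mul_mem (inv_mem mu) this) (inv_mem me)
  have R : RelsG a b c d e u := ⟨a2, b2, c2, d2, e2, X.dih a2 b2 (ea ▸ R1.ab), ae,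
    X.dih b2 c2 (ec ▸ R1.bc), X.dih b2 d2 (ed ▸ R1.bd), X.dih b2 e2 (ee ▸ R1.be), cd, ce, de, u2, ua,
    uc, ue, ded, r1, ud⟩
  have r2' : r2W a b c d e u = 1 := by
    have k1 : σ (r2W a b c d e u) = 1 := by
      simpa only [r2W, map_mul, map_inv, ea, ec, ed, ee, eu] using r2
    have mU : d⁻¹ * u * d ∈ L := mul_mem (mul_mem (inv_mem md) mu) md
    set U := d⁻¹ * u * d
    have m1 := cjW (x := c⁻¹ * e⁻¹ * U⁻¹ * (e⁻¹ * u⁻¹) * U⁻¹) (mul_mem (mul_mem (mul_mem (mul_mem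
      (inv_mem mc) (inv_mem me)) (inv_mem mU)) (mul_mem (inv_mem me) (inv_mem mu))) (inv_mem mU))
      (by
        simp only [U, map_mul, map_inv, ec, ed, ee, eu]
        exact h.frT.ex_eq (.pow (AX 2 * AX 3 * AX 0) 4) (.w []) (by decide +kernel))
      (by
        simp only [U, map_mul, map_inv, ec, ed, ee, eu]
        have := (h.comm_iff (AX 2 * AX 3 * AX 0).word (show 2 < 512 by norm_num)).2 (by decide +kernel)
        rw [h.ev_word] at this
        exact mem_Cz.2 this)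
    have e1 : W * (c⁻¹ * e⁻¹ * U⁻¹) * W⁻¹ * (W * (c⁻¹ * e⁻¹ * U⁻¹))⁻¹ *
        (W * (c⁻¹ * e⁻¹ * U⁻¹ * (e⁻¹ * u⁻¹) * U⁻¹) * W⁻¹ * U) = r2W a b c d e u := by
      rw [← inv_mul_cancel_left (U⁻¹ * W⁻¹ * U) (r2W a b c d e u), (X.comm k1 (U⁻¹ * W⁻¹ * U)).eq,
        r2W, ← hW]
      simp only [U]
      group
    have m2 := mul_mem m1 mU
    refine one (e1 ▸ mul_mem (mL ?_ ?_) m2) k1
    · rw [conj_pow, Wi, show 4 = 2 * 2 from rfl, pow_mul, pow_two W, W2, one_pow, mul_one,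
        mul_inv_cancel]
    · rw [eq_mul_inv_of_mul_eq e1, map_mul, k1, one_mul, map_inv]
      exact inv_mem (((map_subtype_commutator ((Cz D.z).comap σ)).ge.trans (map_subtype_le _)) m2)
  obtain ⟨f, fa, fb, fc, fd, fe, fs, ft, fu⟩ := exists_hom_Th R ⟨s7, sa, X.cm b4 (es ▸ R2.sb), sc, sd, es', t3, ta,
    X.cm b4 (et ▸ R2.tb), tc, td, te, st, tu, eu', us, us4, du⟩ (bcde8 R r2') r2'
  have m : ∀ {x g y}, f (PresentedGroup.of x) = g → σ g = y → y ∈ (σ.comp f).range :=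
    fun e1 e2 => ⟨_, (congrArg σ e1).trans e2⟩
  refine ⟨f, MonoidHom.range_eq_top.1 (h.surj (b := 1) (h.Cz_le (m fa ea) (m fc ec) (m fd ed)
    (m fe ee) (m fs es) (m ft et) (m fu eu)) ?_)⟩
  rw [← bw]
  exact mul_mem (mul_mem (inv_mem (m fb rfl)) (mul_mem (m fa ea) (m fc ec))) (m fb rfl)

theorem Hyp.multiplier {G : Type u} [Group G] [Finite G] {Q : Subgroup G} {z : G}
    {p : G → Perm (Fin 9)} (H : Hyp Q z p) (hn : ¬ IsIsolatedInvolution z)
    (hN : Nat.card G = 90745943887872000)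
    (hi : ∀ f : Spor.Th →* G, Function.Surjective f → Function.Injective f) :
    HasCyclicSchurMultiplier G 1 := by
  obtain ⟨D, n, w, -, -, h⟩ := H.exists_st hn
  refine hasTrivialMultiplier_of_pBound fun q hq => ?_
  rcases hq.eq_two_or_odd' with rfl | ho
  · exact h.pBound_two hN
  refine Chev.Pc.pBound_of_quot fun Γ _ _ σ hσ hk => ⟨1, fun _ => one_mem _, by simp, fun k hk' => ?_⟩
  obtain ⟨f, hf⟩ := h.ker_odd ⟨hσ.1, hσ.2.1, ho, hk⟩
  obtain ⟨x, rfl⟩ := Solv.surjective_of_stem σ hσ f hf k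
  rw [(injective_iff_map_eq_one _).1 (hi _ hf) x hk', map_one]
  exact one_mem _

end Cfsg.Lib.ThT
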