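import Cfsg.Agent.ThT.M248L
import Cfsg.Agent.Spor.ThPres

/-! The relators of the Thompson group hold for the `248`-dimensional matrices. -/

set_option autoImplicit false
set_option maxRecDepth 100000
set_option Elab.async false

namespace Cfsg.Lib.ThT.M248

open Cfsg.Lib.Spor.MG Cfsg.Lib.Spor.Bulk Cfsg.Lib.Spor

theorem r0 : band (Nat.beq (pl [] 0) O.one) (allR (fun l => Nat.beq (O.mul (pl [] l) (pl [] (ThP.iota l)))
    O.one) 0 12) = true := by decide +kernel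

def R1 : List (List ℕ) := [[2,1,2,1,2,1],[5,1,5,1],[3,2,3,2,3,2],[4,2,4,2],[5,2,5,2],[3,4,3,4,3,4,3,4,1],[5,3,5,3],[5,4,5,4,5,4]]

theorem r1 : band (ltB 12 R1) (allL (fun r => Nat.beq (O.wl (pl []) r O.one) O.one) R1) = true := by
  decide +kernel

def R2 : List (List ℕ) := [[5,4,3,2,5,4,3,2,5,4,3,2,5,4,3,2,5,4,3,2,5,4,3,2,5,4,3,2,5,4,3,2],[6,6,6,6,6,6,6],[1,6,1,7]]

theorem r2 : band (ltB 12 R2) (allL (fun r => Nat.beq (O.wl (pl []) r O.one) O.one) R2) = true := by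
  decide +kernel

def R3 : List (List ℕ) := [[2,6,2,7],[3,6,3,7],[4,6,4,6],[6,6,6,5,7,7,5,7,5],[8,8,8],[1,8,1,9],[2,8,2,9],[3,8,3,9],[4,8,4,9],[5,8,5,9]]

theorem r3 : band (ltB 12 R3) (allL (fun r => Nat.beq (O.wl (pl []) r O.one) O.one) R3) = true := by
  decide +kernel

def R4 : List (List ℕ) := [[7,7,8,6,9],[1,3,10,10],[1,10,1,11],[3,10,3,11],[5,10,5,11],[10,4,11,5,4,10,4,11,5,4],[5,2,3,1,2,10,2,1,3,2,11]]

theorem r4 : band (ltB 12 R4) (allL (fun r => Nat.beq (O.wl (pl []) r O.one) O.one) R4) = true := by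
  decide +kernel

def R5 : List (List ℕ) := [[11,5,2,1,3,2,4,11,4,5,3,2,3,1,2,4,10,4,2,1,3,2,4,11,4],[8,10,8,11],[6,6,10,7,7,5,6,6,11,7,7,5]]

theorem r5 : band (ltB 12 R5) (allL (fun r => Nat.beq (O.wl (pl []) r O.one) O.one) R5) = true := by
  decide +kernel

def R6 : List (List ℕ) := [[11,7,11,7,11,7,3,1],[10,6,11,7,10,6,11,7,10,6,11,7,10,6,11,7,3,1]]

theorem r6 : band (ltB 12 R6) (allL (fun r => Nat.beq (O.wl (pl []) r O.one) O.one) R6) = true := by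
  decide +kernel

def R7 : List (List ℕ) := [[1,3,4,3,4,7,5,4,3,4,5,6,6,6,5,4,3,4,5,10,7,7,4,6,6,10,7,7,4,6,6,10,7,7,4,6,6,10,7,7,4]]

theorem r7 : band (ltB 12 R7) (allL (fun r => Nat.beq (O.wl (pl []) r O.one) O.one) R7) = true := by
  decide +kernel

theorem h3 : (3 : ZMod 3) = 0 := rfl

variable {ι : Type} [Fintype ι] [DecidableEq ι] (e : ι ≃ Fin 248)

/-- The decoding. -/
noncomputable abbrev I : Impl O (Matrix ι ι (ZMod 3)) := T3.impl h3 e

theorem sat : (∀ l < 12, (I e).InS Set.univ (pl [] l)) ∧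
    Sat (fun l => (I e).u (pl [] l)) 12 ThP.iota ThP.R :=
  Impl.sat_app (Impl.sat_app (Impl.sat_app (Impl.sat_app (Impl.sat_app (Impl.sat_app (Impl.sat_app (Impl.sat_nil (I := I e) (pl []) 12 ThP.iota r0)
    R1 r1)
    R2 r2)
    R3 r3)
    R4 r4)
    R5 r5)
    R6 r6)
    R7 r7

/-- The representation of degree `248`. -/
noncomputable def f : Cfsg.Spor.Th →* (Matrix ι ι (ZMod 3))ˣ := ThP.hom (sat e).2

theorem f_g0 {l : ℕ} (h : l < 12) : f e (ThP.g0 l) = (I e).u (pl [] l) := ThP.hom_g0 (sat e).2 l h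

theorem allS (T : List ℕ) : (I e).AllS (pl T) (f e).range 4095 := fun l hl => by
  have h : l < 12 := by
    by_contra h
    rw [Nat.testBit_lt_two_pow (lt_of_lt_of_le (by norm_num : 4095 < 2 ^ 12)
      (Nat.pow_le_pow_right two_pos (not_lt.1 h)))] at hl
    exact Bool.false_ne_true hl
  rw [pl_lt T h]
  exact ((sat e).1 l h).of_mem ⟨_, f_g0 e h⟩

theorem range_le {K : Subgroup (Matrix ι ι (ZMod 3))ˣ} (h : ∀ l < 12, (I e).InS K (pl [] l)) :
    (f e).range ≤ K := by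
  rw [MonoidHom.range_eq_map, ← ThP.top, Subgroup.map_le_iff_le_comap]
  refine gL_le fun l hl => ?_
  have h1 : l < 12 := by revert l; decide
  show f e _ ∈ K
  rw [f_g0 e h1]
  exact (h l h1).u_mem

end Cfsg.Lib.ThT.M248
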