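import Cfsg.Agent.ThT.Tools
import Cfsg.Agent.ThT.ModBas

/-! Groups of Thompson type: conjugacy of the involutions of `Q`; for the natural module, `z` is
weakly closed in `Q`. -/

set_option autoImplicit false

namespace Cfsg.Lib.ThT

open Subgroup Equiv Cfsg.Lib.Spor.Bulk Cfsg.Lib.Spor.MG Cfsg.Lib.Local Cfsg.Lib.Known
open scoped Pointwise

variable {G : Type*} [Group G]

/-- the letters used in orbit certificates -/
def ltr (i : ℕ) : ℕ := cond (Nat.blt i 14) (Nat.add 512 i) (Nat.pow 2 (Nat.sub i 14))

/-- hints for the orbits of involutions -/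
def HI (k : Bool) : ℕ := cond k
  0x800100c60008202800300460280020046010002004400146008001180030800110002080012000200401501400802000c03200800100418060008021004018060020080280a00401008020200802409000000000000000000000000000000000000000000000284000004200000000000000000000000000000000000000000000000000524620000043025000000000019c6709c27000006acc421c87380000800200ca00042018005004201000400420100020042000ca010001180050800310002080031000401806280a010040018060802001004401000080208020280a00040100c0300c030080200401024090000000000000000002500000000002100000000000000000000000000000000000000000000000050d430000000000000000000052462000004302500000000001004009c27000006acc421c873d000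
  0x71c20480001800000004580000000300002014a0280000000300002010800000200c600084031c2030000000030000201480000020146001440280200000201060010402002000c40180201002080000000000000300002010800000200c60008402b0200000200c600084022c20008401a82012420000000000200c60008402002000840180201002048000008401802010020480001002048000480000000000100100005000000004200000000300002014a0600000000300002010800000200c600084030100680000000300002010a00000200ca0008a0100200000200c80008801002000860100201002000000300000000300002010800000200c6000840281800000200c600084020160008401814010120680000000200c600084028020008402802028020600000084020020200205800018020500004800000000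

theorem inv_run (k : Bool) : allR (fun c => Nat.beq c 0 || Nat.beq c 256 || !Nat.beq (mq k c c) 0 ||
    run (fun i c => actl k (ltr i) c) (tk 5 (HI k))
      (fun c => cond k (Nat.beq c 258) (Nat.beq c 131 || Nat.beq c 255)) 6 c) 0 512 = true := by
  cases k <;> decide +kernel

theorem Fr.evl_mem {k : Bool} {D : Dat G} (h : Fr k D) (l : ℕ) : D.evl l ∈ Cz D.z := by
  simpa [Dat.ev] using h.ev_mem [l]

theorem Fr.inv_class {k : Bool} {D : Dat G} (h : Fr k D) {y : G} (hy : y ∈ D.Q) (h2 : y * y = 1)
    (h1 : y ≠ 1) (hz : y ≠ D.z) : ∃ g ∈ Cz D.z, ∃ r,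
      cond k (Nat.beq r 258) (Nat.beq r 131 || Nat.beq r 255) = true ∧ y = (D.conj g).io r := by
  obtain ⟨c, hc, rfl⟩ := h.sj y hy
  have e := allR_zero_iff.1 (inv_run k) c hc
  rw [h.io_mul hc hc, ← D.io_zero] at h2
  have n1 : Nat.beq c 0 = false := by
    rw [← Bool.not_eq_true]; exact fun e => h1 (by rw [Nat.eq_of_beq_eq_true e, D.io_zero])
  have n2 : Nat.beq c 256 = false := by
    rw [← Bool.not_eq_true]; exact fun e => hz (by rw [Nat.eq_of_beq_eq_true e, D.io_256])
  rw [n1, n2, h.io_inj (mq_lt k hc hc) (by norm_num) h2] at e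
  simp only [Nat.beq_refl, Bool.not_true, Bool.or_self, Bool.false_or] at e
  refine run_sound (I := fun c => c < 512) (P := fun c => ∃ g ∈ Cz D.z, ∃ r,
    cond k (Nat.beq r 258) (Nat.beq r 131 || Nat.beq r 255) = true ∧ D.io c = (D.conj g).io r)
    ?_ ?_ ?_ _ c hc e
  · exact fun c _ e => ⟨1, one_mem _, c, e, by simp [Dat.conj_io]⟩
  · exact fun i c hc => (h.act_evl _ c hc).1
  · rintro i c hc ⟨g, hg, r, hr, e⟩
    refine ⟨(D.evl (ltr i))⁻¹ * g, mul_mem (inv_mem (h.evl_mem _)) hg, r, hr, ?_⟩
    rw [Dat.conj_io] at e ⊢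
    calc D.io c = (D.evl (ltr i))⁻¹ * (D.evl (ltr i) * D.io c * (D.evl (ltr i))⁻¹) *
        D.evl (ltr i) := by group
      _ = _ := by rw [show D.evl (ltr i) * D.io c * _ = _ from (h.act_evl _ c hc).2.trans e]; group

theorem cj_mod (k : Bool) (l c : ℕ) : cj k l c % 256 = c % 256 := by
  refine Nat.eq_of_testBit_eq fun i => ?_
  rw [show 256 = 2 ^ 8 from rfl, Nat.testBit_mod_two_pow, Nat.testBit_mod_two_pow]
  by_cases hi : i < 8
  · show (_ && Nat.testBit (((l ^^^ c) ^^^ (_ <<< 8) ^^^ (l ^^^ (_ <<< 8))) ^^^ (_ <<< 8)) i) = _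
    simp only [Nat.testBit_xor, Nat.testBit_shiftLeft, hi.not_ge, decide_false, Bool.false_and,
      Bool.xor_false]
    cases l.testBit i <;> cases c.testBit i <;> rfl
  · simp [hi]

/-- the support of a vector of the natural module -/
def emb (c : ℕ) : ℕ := Nat.add (Nat.mod c 256) (cond (tb
  0x6996966996696996966969966996966996696996699696696996966996696996 (Nat.mod c 256)) 256 0)

theorem emb_chk : allR (fun a => allR (fun c => fr (emb (xt false a c)) fun x => fr (emb c) fun y =>
    allR (fun i => tb x (pl (512 + a) i) == tb y i) 0 9) 0 512) 0 14 = true := by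
  decide +kernel

theorem emb_actl (l : ℕ) {c : ℕ} (hc : c < 512) (i : Fin 9) :
    (emb (actl false l c)).testBit (permL l i) = (emb c).testBit i := by
  have key : ∀ a < 14, (emb (xt false a c)).testBit (pl (512 + a) i) = (emb c).testBit i :=
    fun a ha => by
      have := allR_zero_iff.1 (allR_zero_iff.1 emb_chk a ha) c hc
      rw [fr_eq, fr_eq, allR_zero_iff] at this
      have := this i i.2
      rwa [beq_iff_eq, tb_eq, tb_eq] at this
  rw [permL_val]
  rcases blt_cases l with ⟨h1, h2⟩ | ⟨h1, h2, h3, h4⟩ | ⟨h1, h2, h3⟩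
  · simp only [actl, pl, h1, cond, emb, mod_eq, cj_mod]
  · have := key (l - 512) (by omega)
    rw [Nat.add_sub_cancel' h3] at this
    simpa only [actl, h1, h2, cond, Nat.sub_eq] using this
  · have := key ((l - 512) % 7 + 7) (by omega)
    have e1 : Nat.blt (512 + ((l - 512) % 7 + 7)) 512 = false := by
      rw [← Bool.not_eq_true, Nat.blt_eq]; omega
    have e2 : Nat.blt (512 + ((l - 512) % 7 + 7)) 519 = false := by
      rw [← Bool.not_eq_true, Nat.blt_eq]; omega
    simp only [pl, e1, e2, cond, Nat.sub_eq, mod_eq, Nat.add_sub_cancel_left, Nat.add_mod_right,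
      Nat.mod_mod] at this
    simpa only [actl, pl, h1, h2, cond, Nat.sub_eq, Nat.add_eq, mod_eq] using this

theorem Fr.supp_conj {D : Dat G} (h : Fr false D) {g : G} (hg : g ∈ Cz D.z) {c : ℕ}
    (hc : c < 512) : ∃ c' < 512, g * D.io c * g⁻¹ = D.io c' ∧
      ∀ i : Fin 9, (emb c').testBit (D.p g i) = (emb c).testBit i := by
  obtain ⟨w, rfl⟩ := h.exists_word hg
  refine ⟨_, h.actW_lt w hc, h.conj_io w hc, fun i => ?_⟩
  rw [h.p_ev]
  induction w with
  | nil => rfl
  | cons l w ih => exact (emb_actl l (h.actW_lt w hc) _).trans (ih (h.ev_mem w))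

theorem c3_inv_fun {β : Type*} (φ : Fin 9 → β) {a b c : Fin 9} (h1 : a ≠ b) (h2 : a ≠ c)
    (h3 : b ≠ c) (e1 : φ a = φ b) (e2 : φ b = φ c) (i : Fin 9) : φ (c3 a b c i) = φ i := by
  by_cases ha : i = a
  · rw [ha, c3_apply_one h1 h3, e1]
  by_cases hb : i = b
  · rw [hb, c3_apply_two, e2]
  by_cases hc : i = c
  · rw [hc, c3_apply_three h2 h3, e1, e2]
  · rw [c3_apply_of_ne ha hb hc]

theorem sign_c3 {a b c : Fin 9} (h1 : a ≠ b) (h2 : a ≠ c) : Perm.sign (c3 a b c) = 1 :=
  (c3_mem_altOn (P := Set.univ) h1 h2 trivial trivial trivial).1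

theorem Fr.nat_aux [Finite G] {D : Dat G} (h : Fr false D) {R : Subgroup G} {r : ℕ}
    {p' : G → Perm (Fin 9)} (h' : Hyp R (D.io r) p') (L : LXPair D.Q R D.z (D.io r)) (β : Bool)
    (hr : r < 512) (h5 : 5 ≤ (Finset.univ.filter fun i : Fin 9 => (emb r).testBit i = β).card)
    (hP : ∀ i ∈ ({2, 3, 4, 5, 6} : Finset (Fin 9)), (emb r).testBit i = β)
    (hc : ∀ c < 512, (∀ i : Fin 9, (emb c).testBit i = (emb r).testBit i) → c = r ∨ c = r ^^^ 256) :
    False := by
  have py : D.p (D.io r) = 1 := h.p_Q (h.io_mem r)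
  have hf := fix_P h.toHyp h'.toPreLX (h.io_cent r) h5 (fun i _ => by rw [py]; rfl)
    (fun b hb i hi => by
      obtain ⟨c', hc', e1, e2⟩ := h.supp_conj hb.2 hr
      rw [h'.central b hb.1, mul_inv_cancel_right] at e1
      rw [Finset.mem_filter] at hi ⊢
      exact ⟨Finset.mem_univ _, by rw [h.io_inj hr hc' e1, e2, hi.2]⟩)
    (fun a ha b hb c hc' h1 h2 h3 => by
      rw [Finset.mem_filter] at ha hb hc'
      obtain ⟨g, hg, e⟩ := h.p_surj _ (sign_c3 h1 h2)
      obtain ⟨c', hc'', e1, e2⟩ := h.supp_conj hg hr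
      rcases hc c' hc'' (fun i => by
        obtain ⟨j, rfl⟩ := (D.p g).surjective i
        rw [e2, e]
        exact (c3_inv_fun (fun i : Fin 9 => (emb r).testBit i) h1 h2 h3 (ha.2.trans hb.2.symm)
          (hb.2.trans hc'.2.symm) j).symm) with rfl | rfl
      · exact ⟨g, ⟨hg, mem_cent_iff_conj.2 e1⟩, e⟩
      · obtain ⟨q, hq, e3⟩ := L.exists_q
        rw [← h.z_mul hr] at e1
        refine ⟨q⁻¹ * g, ⟨(Cz _).mul_mem ((Cz _).inv_mem (h.le_cent hq)) hg, L.inv_mul_mem e3 e1⟩, ?_⟩
        rw [h.p_mul _ (inv_mem (h.le_cent hq)) _ hg, h.p_Q (inv_mem hq), one_mul, e])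
  have h1 := card_le_four_mul h.toHyp h'.toPreLX (Or.inl (by rw [py]; rfl))
    fun b hb i hi => hf b hb i (Finset.mem_filter.2 ⟨Finset.mem_univ _, hP i hi⟩)
  have h2 := (h'.card_P L.symm).1
  have h3 := (h.card_P L).2
  omega

theorem Fr.nat_wc [Finite G] {D : Dat G} (h : Fr false D) {g : G} (hin : g * D.z * g⁻¹ ∈ D.Q) :
    g * D.z * g⁻¹ = D.z := by
  by_contra hne
  obtain ⟨a, ha, r, hr, e⟩ := h.inv_class hin (by rw [conj_mul, h.mul_self]; simp)
    (by simpa using h.ne_one) hne
  have L : LXPair (D.conj a).Q (MulAut.conj g • D.Q) (D.conj a).z ((D.conj a).io r) := by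
    rw [h.conj_Q ha, h.conj_z ha, ← e]; exact h.toPreLX.pair hne hin
  have H := h.toHyp.conj g
  rw [e] at H
  simp only [cond, Bool.or_eq_true] at hr
  rcases hr with hr | hr <;> rw [Nat.eq_of_beq_eq_true hr] at L H
  · exact (h.conj a).nat_aux H L false (by norm_num) (by decide +kernel) (by decide +kernel)
      (by decide +kernel)
  · exact (h.conj a).nat_aux H L true (by norm_num) (by decide +kernel) (by decide +kernel)
      (by decide +kernel)

end Cfsg.Lib.ThT
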