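import Cfsg.Agent.ThT.Rels
import Cfsg.Agent.Spor.PresBridge

/-! Letters and relators for the coset enumerations in `G₂(3):2`. -/

set_option autoImplicit false
set_option maxRecDepth 100000
set_option Elab.async false

namespace Cfsg.Lib.ThT.Tc

open Cfsg.Lib.Spor.Bulk

/-- inversion of letters -/
noncomputable def iota : ℕ → ℕ := getN 0 [0,1,2,3,4,5,7,6]

/-- the letters -/
def gg {G : Type*} [Group G] (a b c d e u : G) : ℕ → G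
  | 1 => a | 2 => b | 3 => c | 4 => d | 5 => e | 6 => u | 7 => u⁻¹ | _ => 1

/-- the relators as expressions -/
def exs : List Ex := [(.pow (.gen 1) 2),
  (.pow (.gen 2) 2),
  (.pow (.gen 3) 2),
  (.pow (.gen 4) 2),
  (.pow (.gen 5) 2),
  (.pow (.mul (.gen 1) (.gen 2)) 3),
  (.pow (.mul (.gen 1) (.gen 5)) 2),
  (.pow (.mul (.gen 2) (.gen 3)) 3),
  (.pow (.mul (.gen 2) (.gen 4)) 2),
  (.pow (.mul (.gen 2) (.gen 5)) 2),
  (.mul (.gen 1) (.inv (.pow (.mul (.gen 3) (.gen 4)) 4))),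
  (.pow (.mul (.gen 3) (.gen 5)) 2),
  (.pow (.mul (.gen 4) (.gen 5)) 3),
  (.mul (.pow (.gen 6) 2) (.inv (.mul (.gen 1) (.gen 3)))),
  (.mul (.mul (.mul (.inv (.gen 6)) (.inv (.gen 1))) (.gen 6)) (.gen 1)),
  (.mul (.mul (.mul (.inv (.gen 6)) (.inv (.gen 3))) (.gen 6)) (.gen 3)),
  (.mul (.mul (.mul (.inv (.gen 6)) (.inv (.gen 5))) (.gen 6)) (.gen 5)),
  (.pow (.mul (.mul (.gen 4) (.gen 5)) (.mul (.mul (.inv (.gen 6)) (.gen 4)) (.gen 6))) 2),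
  (.mul (.mul (.mul (.mul (.inv (.gen 6)) (.inv (.mul (.mul (.inv (.gen 2)) (.mul (.gen 1) (.gen 3))) (.gen 2)))) (.gen 6)) (.mul (.mul (.inv (.gen 2)) (.mul (.gen 1) (.gen 3))) (.gen 2))) (.inv (.gen 5))),
  (.pow (.mul (.gen 6) (.gen 4)) 6)]

/-- the last relator -/
def ex2 : Ex := (.mul (.mul (.mul (.mul (.inv (.mul (.mul (.inv (.gen 4)) (.gen 6)) (.gen 4))) (.inv (.mul (.mul (.inv (.gen 2)) (.mul (.gen 1) (.gen 3))) (.gen 2)))) (.mul (.mul (.inv (.gen 4)) (.gen 6)) (.gen 4))) (.mul (.mul (.inv (.gen 2)) (.mul (.gen 1) (.gen 3))) (.gen 2))) (.inv (.mul (.mul (.mul (.mul (.mul (.gen 6) (.gen 5)) (.mul (.mul (.inv (.gen 2)) (.mul (.gen 1) (.gen 3))) (.gen 2))) (.mul (.mul (.inv (.gen 4)) (.gen 6)) (.gen 4))) (.gen 5)) (.gen 3))))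

/-- the relators as words -/
def R0 : List (List ℕ) := [[2,1,2,1,2,1],[5,1,5,1],[3,2,3,2,3,2],[4,2,4,2],[5,2,5,2],[3,4,3,4,3,4,3,4,1],[5,3,5,3],[5,4,5,4,5,4],[1,3,6,6],[1,6,1,7],[3,6,3,7],[5,6,5,7],[6,4,7,5,4,6,4,7,5,4],[5,2,3,1,2,6,2,1,3,2,7],[4,6,4,6,4,6,4,6,4,6,4,6]]

variable {G : Type*} [Group G] {a b c d e u : G}

theorem gg_inv (h : RelsG a b c d e u) : ∀ l < 8, gg a b c d e u (iota l) = (gg a b c d e u l)⁻¹ := by
  have k : ∀ x : G, x ^ 2 = 1 → x = x⁻¹ := fun x hx => eq_inv_of_mul_eq_one_left (by rwa [← sq])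
  intro l hl
  interval_cases l
  exacts [inv_one.symm, k a h.a2, k b h.b2, k c h.c2, k d h.d2, k e h.e2, rfl, (inv_inv u).symm]

theorem wv_word (h : RelsG a b c d e u) {x : Ex} (hx : x.all (fun l => Nat.blt l 8) = true) :
    wv (gg a b c d e u) (x.word iota) = x.ev (gg a b c d e u) :=
  Ex.wv_word (k := 8) (gg_inv h) (by decide +kernel) (fun l hl => by simpa using hl) hx

theorem satX (h : RelsG a b c d e u) {x : Ex} (hx : x.all (fun l => Nat.blt l 8) = true)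
    (h1 : x.ev (gg a b c d e u) = 1) :
    Sat (gg a b c d e u) 8 iota (mapL (Ex.word iota) exs ++ [x.word iota]) := by
  refine Sat.append ⟨rfl, gg_inv h, fun r hr => ?_⟩ (by simpa [wv_word h hx] using h1)
  rw [mapL_eq] at hr
  obtain ⟨y, hy, rfl⟩ := List.mem_map.1 hr
  have h2 : allL (Ex.all fun l => Nat.blt l 8) exs = true := by decide +kernel
  rw [wv_word h (allL_iff.1 h2 y hy)]
  have H : List.Forall (fun y => Ex.ev (gg a b c d e u) y = 1) exs :=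
    ⟨h.a2, h.b2, h.c2, h.d2, h.e2, h.ab, h.ae, h.bc, h.bd, h.be, h.cd, h.ce, h.de, h.u2, h.ua, h.uc,
      h.ue, h.ded, h.r1, h.ud⟩
  exact List.forall_iff_forall_mem.1 H y hy

theorem sat1 (h : RelsG a b c d e u) (h2 : r2W a b c d e u = 1) :
    Sat (gg a b c d e u) 8 iota (R0 ++ [[7,5,2,1,3,2,4,7,4,5,3,2,3,1,2,4,6,4,2,1,3,2,4,7,4]]) :=
  (satX h (x := ex2) (by decide +kernel) h2).deriv (E := [(5,0),(6,0),(7,0),(8,0),(9,0),(10,0),(11,0),(12,0),(13,0),(14,0),(15,0),(16,0),(17,0),(18,0),(19,0),(20,0)]) (by decide +kernel)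

theorem satv0 (h : RelsG a b c d e u) (h2 : r2W a b c d e u * (a) = 1) :
    Sat (gg a b c d e u) 8 iota (R0 ++ [[1,7,5,2,1,3,2,4,7,4,5,3,2,3,1,2,4,6,4,2,1,3,2,4,7,4]]) :=
  (satX h (x := .mul ex2 (.gen 1)) (by decide +kernel) h2).deriv (E := [(5,0),(6,0),(7,0),(8,0),(9,0),(10,0),(11,0),(12,0),(13,0),(14,0),(15,0),(16,0),(17,0),(18,0),(19,0),(20,0)]) (by decide +kernel)

theorem satv1 (h : RelsG a b c d e u) (h2 : r2W a b c d e u * (c) = 1) :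
    Sat (gg a b c d e u) 8 iota (R0 ++ [[3,7,5,2,1,3,2,4,7,4,5,3,2,3,1,2,4,6,4,2,1,3,2,4,7,4]]) :=
  (satX h (x := .mul ex2 (.gen 3)) (by decide +kernel) h2).deriv (E := [(5,0),(6,0),(7,0),(8,0),(9,0),(10,0),(11,0),(12,0),(13,0),(14,0),(15,0),(16,0),(17,0),(18,0),(19,0),(20,0)]) (by decide +kernel)

theorem satv2 (h : RelsG a b c d e u) (h2 : r2W a b c d e u * (a * c) = 1) :
    Sat (gg a b c d e u) 8 iota (R0 ++ [[3,1,7,5,2,1,3,2,4,7,4,5,3,2,3,1,2,4,6,4,2,1,3,2,4,7,4]]) :=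
  (satX h (x := .mul ex2 (.mul (.gen 1) (.gen 3))) (by decide +kernel) h2).deriv (E := [(5,0),(6,0),(7,0),(8,0),(9,0),(10,0),(11,0),(12,0),(13,0),(14,0),(15,0),(16,0),(17,0),(18,0),(19,0),(20,0)]) (by decide +kernel)

theorem satv3 (h : RelsG a b c d e u) (h2 : r2W a b c d e u * (d * u⁻¹ * d * c * d * u * d) = 1) :
    Sat (gg a b c d e u) 8 iota (R0 ++ [[3,4,7,4,7,5,2,1,3,2,4,7,4,5,3,2,3,1,2,4,6,4,2,1,3,2]]) :=
  (satX h (x := .mul ex2 (.mul (.mul (.mul (.mul (.mul (.mul (.gen 4) (.inv (.gen 6))) (.gen 4)) (.gen 3)) (.gen 4)) (.gen 6)) (.gen 4))) (by decide +kernel) h2).deriv (E := [(5,0),(6,0),(7,0),(8,0),(9,0),(10,0),(11,0),(12,0),(13,0),(14,0),(15,0),(16,0),(17,0),(18,0),(19,0),(20,3)]) (by decide +kernel)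

theorem satv4 (h : RelsG a b c d e u) (h2 : r2W a b c d e u * (d * u * d * c * d * u⁻¹ * d) = 1) :
    Sat (gg a b c d e u) 8 iota (R0 ++ [[7,4,3,4,6,4,7,5,2,1,3,2,4,7,4,5,3,2,3,1,2,4,6,4,2,1,3,2,4,7]]) :=
  (satX h (x := .mul ex2 (.mul (.mul (.mul (.mul (.mul (.mul (.gen 4) (.gen 6)) (.gen 4)) (.gen 3)) (.gen 4)) (.inv (.gen 6))) (.gen 4))) (by decide +kernel) h2).deriv (E := [(5,0),(6,0),(7,0),(8,0),(9,0),(10,0),(11,0),(12,0),(13,0),(14,0),(15,0),(16,0),(17,0),(18,0),(19,0),(20,1)]) (by decide +kernel)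

theorem satv5 (h : RelsG a b c d e u) (h2 : r2W a b c d e u * (c * d * u⁻¹ * d * c * d * u * d) = 1) :
    Sat (gg a b c d e u) 8 iota (R0 ++ [[3,4,7,4,3,7,5,2,1,3,2,4,7,4,5,3,2,3,1,2,4,6,4,2,1,3,2]]) :=
  (satX h (x := .mul ex2 (.mul (.mul (.mul (.mul (.mul (.mul (.mul (.gen 3) (.gen 4)) (.inv (.gen 6))) (.gen 4)) (.gen 3)) (.gen 4)) (.gen 6)) (.gen 4))) (by decide +kernel) h2).deriv (E := [(5,0),(6,0),(7,0),(8,0),(9,0),(10,0),(11,0),(12,0),(13,0),(14,0),(15,0),(16,0),(17,0),(18,0),(19,0),(20,3)]) (by decide +kernel)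

theorem satv6 (h : RelsG a b c d e u) (h2 : r2W a b c d e u * (c * d * u * d * c * d * u⁻¹ * d) = 1) :
    Sat (gg a b c d e u) 8 iota (R0 ++ [[7,4,3,4,6,4,3,7,5,2,1,3,2,4,7,4,5,3,2,3,1,2,4,6,4,2,1,3,2,4,7]]) :=
  (satX h (x := .mul ex2 (.mul (.mul (.mul (.mul (.mul (.mul (.mul (.gen 3) (.gen 4)) (.gen 6)) (.gen 4)) (.gen 3)) (.gen 4)) (.inv (.gen 6))) (.gen 4))) (by decide +kernel) h2).deriv (E := [(5,0),(6,0),(7,0),(8,0),(9,0),(10,0),(11,0),(12,0),(13,0),(14,0),(15,0),(16,0),(17,0),(18,0),(19,0),(20,1)]) (by decide +kernel)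


end Cfsg.Lib.ThT.Tc
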